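import Groth.Agent.BranchLib.Decomp

/-!
Branch counts: decomposition over the minimal primes, and the counts equal to one.
-/

set_option autoImplicit false
set_option linter.style.haveILetI false

universe u

open IsLocalRing

namespace Groth.Agent.BranchLib

theorem enat_card_eq_one {α : Type u} : ENat.card α = 1 ↔ Subsingleton α ∧ Nonempty α := by
  rw [ENat.card_eq_one_iff_unique, unique_iff_subsingleton_and_nonempty]

variable (A : Type u) [CommRing A]

theorem finite_minimalPrimes_quotient (p : Ideal A) [p.IsPrime] : (minimalPrimes (A ⧸ p)).Finite := by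
  haveI : IsDomain (A ⧸ p) := Ideal.Quotient.isDomain p
  refine (Set.finite_singleton ⊥).subset fun P hP => ?_
  exact le_antisymm (hP.2 ⟨Ideal.isPrime_bot, le_refl _⟩ bot_le) bot_le

theorem numBranches_eq_finsum [IsLocalRing A] (h : (minimalPrimes A).Finite) :
    Brnch.numBranches A =
      ∑ᶠ p : minimalPrimes A,
        haveI : p.1.IsPrime := p.2.1.1
        Brnch.numBranches (A ⧸ p.1) := by
  classical
  haveI : Fintype (minimalPrimes A) := h.fintype
  obtain ⟨Φ, -⟩ := exists_component_equiv A h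
  rw [finsum_eq_sum_of_fintype]
  unfold Brnch.numBranches
  rw [if_pos h, ← ENat.card_congr Φ, enat_card_sigma]
  refine Finset.sum_congr rfl fun p _ => ?_
  haveI : p.1.IsPrime := p.2.1.1
  rw [if_pos (finite_minimalPrimes_quotient A p.1)]

theorem numGeomBranches_eq_finsum [IsLocalRing A] (h : (minimalPrimes A).Finite) :
    Brnch.numGeomBranches A =
      ∑ᶠ p : minimalPrimes A,
        haveI : p.1.IsPrime := p.2.1.1
        Brnch.numGeomBranches (A ⧸ p.1) := by
  classical
  haveI : Fintype (minimalPrimes A) := h.fintype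
  haveI : ∀ p : minimalPrimes A, p.1.IsPrime := fun p => p.2.1.1
  obtain ⟨Φ, hΦ⟩ := exists_component_equiv A h
  choose θ hθ using hΦ
  rw [finsum_eq_sum_of_fintype]
  unfold Brnch.numGeomBranches
  rw [if_pos h]
  have hemb : ∀ x, Nonempty (Brnch.Emb A (Φ x) ≃ Brnch.Emb (A ⧸ x.1.1) x.2) := fun x => by
    haveI : IsLocalHom (Ideal.Quotient.mk x.1.1) :=
      Ideal.Quotient.mk_surjective.isLocalHom (f := Ideal.Quotient.mk x.1.1)
    exact nonempty_emb_equiv A (Ideal.Quotient.mk x.1.1) Ideal.Quotient.mk_surjective (Φ x) x.2 (θ x) (hθ x)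
  let e₁ : (Σ M : MaximalSpectrum (CAlg2.normRed A), Brnch.Emb A M) ≃
      Σ p : minimalPrimes A, Σ N : MaximalSpectrum (CAlg2.normRed (A ⧸ p.1)), Brnch.Emb (A ⧸ p.1) N :=
    ((Equiv.sigmaCongrLeft Φ).symm.trans (Equiv.sigmaCongrRight fun x => (hemb x).some)).trans
      (Equiv.sigmaAssoc fun (p : minimalPrimes A) (N : MaximalSpectrum (CAlg2.normRed (A ⧸ p.1))) =>
        Brnch.Emb (A ⧸ p.1) N)
  rw [ENat.card_congr e₁, enat_card_sigma]
  refine Finset.sum_congr rfl fun p _ => ?_
  rw [if_pos (finite_minimalPrimes_quotient A p.1)]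

theorem finite_minimalPrimes_of_isDomain_red (h : IsDomain (CAlg2.red A)) : (minimalPrimes A).Finite := by
  haveI hp : (nilradical A).IsPrime := (Ideal.Quotient.isDomain_iff_prime _).mp h
  refine (Set.finite_singleton (nilradical A)).subset fun P hP => ?_
  exact le_antisymm (hP.2 ⟨hp, bot_le⟩ (nilradical_le_prime P (H := hP.1.1))) (nilradical_le_prime P (H := hP.1.1))

theorem numBranches_eq_one_iff [IsLocalRing A] : Brnch.numBranches A = 1 ↔ CAlg2.IsUnibranch A := by
  classical
  unfold Brnch.numBranches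
  constructor
  · intro h1
    have hfin : (minimalPrimes A).Finite := by
      by_contra hinf
      rw [if_neg hinf] at h1
      exact ENat.top_ne_one h1
    rw [if_pos hfin, enat_card_eq_one] at h1
    obtain ⟨hsub, ⟨M⟩⟩ := h1
    refine ⟨?_, IsLocalRing.of_unique_max_ideal ⟨M.asIdeal, M.isMaximal, fun N hN =>
      congrArg MaximalSpectrum.asIdeal (Subsingleton.elim (⟨N, hN⟩ : MaximalSpectrum _) M)⟩⟩
    haveI : ∀ p : minimalPrimes A, p.1.IsPrime := fun p => p.2.1.1
    obtain ⟨Φ, -⟩ := exists_component_equiv A hfin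
    have hne : ∀ p : minimalPrimes A, Nonempty (MaximalSpectrum (CAlg2.normRed (A ⧸ p.1))) := fun p => by
      haveI := isPrime_red p.1
      obtain ⟨N, hN⟩ := Ideal.exists_maximal (CAlg2.normRed (A ⧸ p.1))
      exact ⟨⟨N, hN⟩⟩
    have huniq : ∀ p q : minimalPrimes A, p = q := fun p q => by
      obtain ⟨N⟩ := hne p
      obtain ⟨N'⟩ := hne q
      exact congrArg Sigma.fst (Φ.injective (Subsingleton.elim (Φ ⟨p, N⟩) (Φ ⟨q, N'⟩)))
    refine (Ideal.Quotient.isDomain_iff_prime _).mpr ?_
    obtain ⟨P, hP⟩ : ∃ P, P ∈ minimalPrimes A := ⟨_, (Φ.symm M).1.2⟩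
    have hnil : nilradical A = P := by
      refine le_antisymm (nilradical_le_prime P (H := hP.1.1)) fun x hx => ?_
      rw [nilradical, ← Ideal.sInf_minimalPrimes (I := (0 : Ideal A)), Submodule.mem_sInf]
      intro Q hQ
      rwa [show Q = P from congrArg Subtype.val (huniq ⟨Q, hQ⟩ ⟨P, hP⟩)]
    exact hnil ▸ hP.1.1
  · rintro ⟨hd, hl⟩
    rw [if_pos (finite_minimalPrimes_of_isDomain_red A hd), enat_card_eq_one]
    exact ⟨⟨fun M N => MaximalSpectrum.ext
      ((IsLocalRing.eq_maximalIdeal M.isMaximal).trans (IsLocalRing.eq_maximalIdeal N.isMaximal).symm)⟩,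
      ⟨⟨maximalIdeal _, inferInstance⟩⟩⟩

theorem card_emb [IsLocalRing A] (M : MaximalSpectrum (CAlg2.normRed A)) :
    1 ≤ ENat.card (Brnch.Emb A M) ∧ (ENat.card (Brnch.Emb A M) = 1 ↔
      ∀ x : CAlg2.normRed A ⧸ M.asIdeal, ∃ n : ℕ,
        x ^ (ringExpChar (CAlg2.normRed A ⧸ M.asIdeal)) ^ n ∈ (Brnch.toResidue A M).range) := by
  haveI := M.isMaximal
  let L := CAlg2.normRed A ⧸ M.asIdeal
  letI : Field L := Ideal.Quotient.field _
  haveI : Algebra.IsIntegral A (CAlg2.red A) :=
    Algebra.IsIntegral.of_surjective (Algebra.ofId A (CAlg2.red A)) Ideal.Quotient.mk_surjective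
  haveI : Algebra.IsIntegral A (CAlg2.normRed A) :=
    ⟨fun x => isIntegral_trans (R := A) (A := CAlg2.red A) x (Algebra.IsIntegral.isIntegral x)⟩
  have hres : ∀ a : A, Brnch.toResidue A M a = algebraMap A L a := fun a => rfl
  have hmax : (RingHom.ker (Brnch.toResidue A M)).IsMaximal := by
    have h1 : RingHom.ker (Brnch.toResidue A M) = M.asIdeal.comap (algebraMap A (CAlg2.normRed A)) := by
      ext a
      rw [RingHom.mem_ker, hres, Ideal.mem_comap]
      exact Ideal.Quotient.eq_zero_iff_mem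
    rw [h1]
    exact Ideal.isMaximal_comap_of_isIntegral_of_isMaximal _
  let ι : ResidueField A →+* L :=
    Ideal.Quotient.lift (maximalIdeal A) (Brnch.toResidue A M) fun a ha => by
      rwa [← RingHom.mem_ker, IsLocalRing.eq_maximalIdeal hmax]
  letI : Algebra (ResidueField A) L := ι.toAlgebra
  have hι : ∀ a, algebraMap (ResidueField A) L (residue A a) = Brnch.toResidue A M a := fun a => rfl
  haveI : IsScalarTower A (ResidueField A) L := IsScalarTower.of_algebraMap_eq fun a => (hres a).symm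
  haveI : Algebra.IsIntegral A L :=
    Algebra.IsIntegral.of_surjective (Ideal.Quotient.mkₐ A M.asIdeal) Ideal.Quotient.mk_surjective
  haveI : Algebra.IsIntegral (ResidueField A) L := ⟨fun x => (Algebra.IsIntegral.isIntegral (R := A) x).tower_top⟩
  haveI : Algebra.IsAlgebraic (ResidueField A) L := Algebra.IsIntegral.isAlgebraic
  let e : Brnch.Emb A M ≃ (L →ₐ[ResidueField A] AlgebraicClosure (ResidueField A)) :=
    { toFun := fun σ =>
        { (σ.1 : L →+* AlgebraicClosure (ResidueField A)) with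
          commutes' := fun r => by
            obtain ⟨a, rfl⟩ := residue_surjective r
            exact RingHom.congr_fun σ.2 a }
      invFun := fun f => ⟨f.toRingHom, RingHom.ext fun a => f.commutes (residue A a)⟩
      left_inv := fun σ => rfl
      right_inv := fun f => rfl }
  have hcard : ENat.card (Brnch.Emb A M) = 1 ↔ IsPurelyInseparable (ResidueField A) L := by
    rw [isPurelyInseparable_iff_finSepDegree_eq_one,
      Field.finSepDegree_eq_of_isAlgClosed (ResidueField A) L (AlgebraicClosure (ResidueField A)),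
      ENat.card_congr e, enat_card_eq_one, Nat.card_eq_one_iff_unique]
  refine ⟨?_, hcard.trans ?_⟩
  · refine (ENat.one_le_card_iff_nonempty _).mpr ?_
    exact ⟨e.symm IsAlgClosed.lift⟩
  · haveI : ExpChar L (ringExpChar L) := ringExpChar.expChar L
    haveI : ExpChar (ResidueField A) (ringExpChar L) :=
      (algebraMap (ResidueField A) L).expChar (RingHom.injective _) _
    rw [isPurelyInseparable_iff_pow_mem (ResidueField A) (ringExpChar L)]
    refine forall_congr' fun x => exists_congr fun n => ?_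
    constructor
    · rintro ⟨r, hr⟩
      obtain ⟨a, rfl⟩ := residue_surjective r
      exact ⟨a, hr⟩
    · rintro ⟨a, ha⟩
      exact ⟨residue A a, ha⟩

theorem numGeomBranches_eq_one_iff [IsLocalRing A] :
    Brnch.numGeomBranches A = 1 ↔ CAlg2.IsGeomUnibranch A := by
  classical
  constructor
  · intro h1
    unfold Brnch.numGeomBranches at h1
    have hfin : (minimalPrimes A).Finite := by
      by_contra hinf
      rw [if_neg hinf] at h1
      exact ENat.top_ne_one h1
    rw [if_pos hfin, enat_card_eq_one] at h1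
    obtain ⟨hsub, ⟨⟨M, σ⟩⟩⟩ := h1
    have hne : ∀ N, Nonempty (Brnch.Emb A N) := fun N =>
      (ENat.one_le_card_iff_nonempty _).mp (card_emb A N).1
    have hM : ∀ N, N = M := fun N => by
      obtain ⟨τ⟩ := hne N
      exact congrArg Sigma.fst (Subsingleton.elim (⟨N, τ⟩ : Σ N, Brnch.Emb A N) ⟨M, σ⟩)
    have hu : CAlg2.IsUnibranch A := by
      rw [← numBranches_eq_one_iff]
      unfold Brnch.numBranches
      rw [if_pos hfin, enat_card_eq_one]
      exact ⟨⟨fun a b => (hM a).trans (hM b).symm⟩, ⟨M⟩⟩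
    refine ⟨hu, fun m hm x => ?_⟩
    refine ((card_emb A ⟨m, hm⟩).2.mp ?_) x
    rw [enat_card_eq_one]
    refine ⟨⟨fun a b => ?_⟩, hne _⟩
    have h2 := Subsingleton.elim (⟨⟨m, hm⟩, a⟩ : Σ N, Brnch.Emb A N) ⟨⟨m, hm⟩, b⟩
    exact sigma_mk_injective h2
  · rintro ⟨hu, hpi⟩
    have h1 := (numBranches_eq_one_iff A).mpr hu
    unfold Brnch.numBranches at h1
    have hfin := finite_minimalPrimes_of_isDomain_red A hu.1
    rw [if_pos hfin, enat_card_eq_one] at h1
    obtain ⟨hsub, ⟨M⟩⟩ := h1
    unfold Brnch.numGeomBranches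
    rw [if_pos hfin]
    have hone : ∀ N, ENat.card (Brnch.Emb A N) = 1 := fun N => by
      haveI := N.isMaximal
      exact (card_emb A N).2.mpr fun x => hpi N.asIdeal x
    rw [enat_card_eq_one]
    obtain ⟨-, ⟨σ⟩⟩ := enat_card_eq_one.mp (hone M)
    refine ⟨⟨fun a b => ?_⟩, ⟨⟨M, σ⟩⟩⟩
    obtain ⟨a₁, a₂⟩ := a
    obtain ⟨b₁, b₂⟩ := b
    obtain rfl : a₁ = b₁ := Subsingleton.elim _ _
    haveI := (enat_card_eq_one.mp (hone a₁)).1
    rw [Subsingleton.elim a₂ b₂]

end Groth.Agent.BranchLib
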