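import Groth.Agent.NormalTensor.BranchComp
import Mathlib.RingTheory.Ideal.KrullsHeightTheorem
import Mathlib.RingTheory.Finiteness.Descent

/-!
# Branches of a local ring and of a faithfully flat extension with the same residue field
-/

set_option autoImplicit false
set_option linter.style.haveILetI false
set_option linter.unusedSectionVars false

universe u

open TensorProduct IsLocalRing nonZeroDivisors

noncomputable section

namespace Groth.Agent.BranchLib

open NormalTensor (toNormRed)

variable (A B : Type u) [CommRing A] [CommRing B] [Algebra A B] [Module.FaithfullyFlat A B]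

/-- The map of reductions. -/
def redMap : CAlg2.red A →+* CAlg2.red B :=
  Ideal.quotientMap (nilradical B) (algebraMap A B) fun a (ha : IsNilpotent a) =>
    (ha.map (algebraMap A B) : IsNilpotent _)

lemma comap_mem_minimalPrimes {P : Ideal B} (hP : P ∈ minimalPrimes B) :
    P.comap (algebraMap A B) ∈ minimalPrimes A := by
  haveI : P.IsPrime := hP.1.1
  obtain ⟨q, hq, hqle⟩ := Ideal.exists_minimalPrimes_le (bot_le : ⊥ ≤ P.comap (algebraMap A B))
  rcases eq_or_lt_of_le hqle with h | h
  · exact h ▸ hq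
  · haveI : q.IsPrime := hq.1.1
    haveI : P.LiesOver (P.comap (algebraMap A B)) := ⟨rfl⟩
    obtain ⟨Q, hQ, hQp, hQq⟩ := Ideal.exists_ideal_lt_liesOver_of_lt (S := B) P h
    exact absurd (hP.2 ⟨hQp, bot_le⟩ hQ.le) hQ.not_ge

lemma notMem_minimalPrimes_of_nzd {R : Type u} [CommRing R] {a : R}
    (ha : Ideal.Quotient.mk (nilradical R) a ∈ (R ⧸ nilradical R)⁰) {P : Ideal R}
    (hP : P ∈ minimalPrimes R) : a ∉ P := by
  intro haP
  haveI : P.IsPrime := hP.1.1
  have hk : RingHom.ker (Ideal.Quotient.mk (nilradical R)) ≤ P := by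
    rw [Ideal.mk_ker]; exact nilradical_le_prime P
  have hmem : P.map (Ideal.Quotient.mk (nilradical R)) ∈ minimalPrimes (R ⧸ nilradical R) := by
    refine ⟨⟨Ideal.map_isPrime_of_surjective Ideal.Quotient.mk_surjective hk, bot_le⟩,
      fun Q hQ hle => ?_⟩
    haveI := hQ.1
    refine Ideal.map_le_iff_le_comap.mpr (hP.2 ⟨inferInstance, bot_le⟩ ?_)
    refine (Ideal.comap_mono hle).trans (le_of_eq ?_)
    rw [Ideal.comap_map_of_surjective _ Ideal.Quotient.mk_surjective, ← RingHom.ker_eq_comap_bot,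
      sup_eq_left.mpr hk]
  exact Set.disjoint_left.mp (Ideal.disjoint_nonZeroDivisors_of_mem_minimalPrimes hmem)
    (Ideal.mem_map_of_mem _ haP) ha

lemma mk_mem_nonZeroDivisors {R : Type u} [CommRing R] {a : R}
    (h : ∀ P ∈ minimalPrimes R, a ∉ P) :
    Ideal.Quotient.mk (nilradical R) a ∈ (R ⧸ nilradical R)⁰ := by
  refine mem_nonZeroDivisors_iff_right.mpr fun x hx => ?_
  obtain ⟨x, rfl⟩ := Ideal.Quotient.mk_surjective x
  rw [← map_mul, Ideal.Quotient.eq_zero_iff_mem] at hx
  rw [Ideal.Quotient.eq_zero_iff_mem, mem_nilradical, nilpotent_iff_mem_prime]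
  intro Q hQ
  haveI : Q.IsPrime := hQ
  obtain ⟨P, hP, hPQ⟩ := Ideal.exists_minimalPrimes_le (J := Q) (bot_le : ⊥ ≤ Q)
  exact hPQ ((hP.1.1.mem_or_mem (nilradical_le_prime P (H := hP.1.1) hx)).resolve_right (h P hP))

lemma nonZeroDivisors_le_comap :
    (CAlg2.red A)⁰ ≤ (CAlg2.red B)⁰.comap (redMap A B) := by
  intro a ha
  obtain ⟨a, rfl⟩ := Ideal.Quotient.mk_surjective a
  exact mk_mem_nonZeroDivisors fun P hP =>
    notMem_minimalPrimes_of_nzd ha (comap_mem_minimalPrimes A B hP)

/-- The map of total rings of fractions. -/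
def fracMap : FractionRing (CAlg2.red A) →+* FractionRing (CAlg2.red B) :=
  IsLocalization.map _ (redMap A B) (nonZeroDivisors_le_comap A B)

lemma fracMap_algebraMap (a : CAlg2.red A) :
    fracMap A B (algebraMap _ _ a) = algebraMap _ _ (redMap A B a) :=
  IsLocalization.map_eq _ _

lemma isIntegral_fracMap {r : FractionRing (CAlg2.red A)} (hr : IsIntegral (CAlg2.red A) r) :
    IsIntegral (CAlg2.red B) (fracMap A B r) := by
  obtain ⟨p, hp, h0⟩ := hr
  refine ⟨p.map (redMap A B), hp.map _, ?_⟩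
  rw [Polynomial.eval₂_map, show (algebraMap (CAlg2.red B) (FractionRing (CAlg2.red B))).comp
    (redMap A B) = (fracMap A B).comp (algebraMap (CAlg2.red A) (FractionRing (CAlg2.red A))) from
      RingHom.ext fun a => (fracMap_algebraMap A B a).symm, ← Polynomial.hom_eval₂, h0, map_zero]

/-- The map of normalisations. -/
def normMap : CAlg2.normRed A →+* CAlg2.normRed B where
  toFun r := ⟨fracMap A B r.1, isIntegral_fracMap A B r.2⟩
  map_one' := Subtype.ext (map_one _)
  map_mul' x y := Subtype.ext (map_mul _ _ _)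
  map_zero' := Subtype.ext (map_zero _)
  map_add' x y := Subtype.ext (map_add _ _ _)

lemma normMap_toNormRed (a : A) :
    normMap A B (toNormRed A a) = toNormRed B (algebraMap A B a) :=
  Subtype.ext (fracMap_algebraMap A B _)

/-- The canonical map from the tensor product. -/
def tensMap : B ⊗[A] FractionRing (CAlg2.red A) →+* FractionRing (CAlg2.red B) :=
  (Algebra.TensorProduct.lift (IsScalarTower.toAlgHom A B (FractionRing (CAlg2.red B)))
    (AlgHom.mk (fracMap A B) fun a =>
      (congrArg (fracMap A B)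
        (IsScalarTower.algebraMap_apply A (CAlg2.red A) (FractionRing (CAlg2.red A)) a)).trans
        ((fracMap_algebraMap A B (algebraMap A (CAlg2.red A) a)).trans
          (IsScalarTower.algebraMap_apply A (CAlg2.red B) (FractionRing (CAlg2.red B)) a).symm))
    fun x y => mul_comm (G := FractionRing (CAlg2.red B)) _ _).toRingHom

lemma tensMap_tmul (b : B) (q : FractionRing (CAlg2.red A)) :
    tensMap A B (b ⊗ₜ q) = algebraMap _ _ (Ideal.Quotient.mk (nilradical B) b) * fracMap A B q :=
  (Algebra.TensorProduct.lift_tmul _ _ _ _ _).trans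
    (congrArg (· * fracMap A B q)
      (IsScalarTower.algebraMap_apply B (CAlg2.red B) (FractionRing (CAlg2.red B)) b))

lemma isNilpotent_of_tensMap_eq_zero (z : B ⊗[A] FractionRing (CAlg2.red A))
    (hz : tensMap A B z = 0) : IsNilpotent z := by
  have key : ∀ w : B ⊗[A] FractionRing (CAlg2.red A), ∃ s ∈ (CAlg2.red A)⁰, ∃ b : B,
      w * ((1 : B) ⊗ₜ algebraMap (CAlg2.red A) (FractionRing (CAlg2.red A)) s) = b ⊗ₜ 1 := by
    intro w
    induction w using TensorProduct.induction_on with
    | zero => exact ⟨1, one_mem _, 0, by simp⟩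
    | tmul y q =>
      obtain ⟨⟨a, s⟩, hq⟩ := IsLocalization.surj (CAlg2.red A)⁰ q
      obtain ⟨a, rfl⟩ := Ideal.Quotient.mk_surjective a
      refine ⟨s, s.2, a • y, ?_⟩
      rw [Algebra.TensorProduct.tmul_mul_tmul, mul_one, hq, TensorProduct.smul_tmul,
        Algebra.smul_def, mul_one]
      rfl
    | add v w hv hw =>
      obtain ⟨s, hs, b, hb⟩ := hv
      obtain ⟨t, ht, c, hc⟩ := hw
      obtain ⟨s', hs'⟩ := Ideal.Quotient.mk_surjective s
      obtain ⟨t', ht'⟩ := Ideal.Quotient.mk_surjective t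
      refine ⟨s * t, mul_mem hs ht, t' • b + s' • c, ?_⟩
      have e : ∀ (x : A) (b : B), (x • b) ⊗ₜ[A] (1 : FractionRing (CAlg2.red A)) =
          (b ⊗ₜ 1) * ((1 : B) ⊗ₜ algebraMap (CAlg2.red A) _ (Ideal.Quotient.mk _ x)) := fun x b => by
        rw [Algebra.TensorProduct.tmul_mul_tmul, mul_one, one_mul, TensorProduct.smul_tmul,
          Algebra.smul_def, mul_one]
        rfl
      rw [TensorProduct.add_tmul, e, e, hs', ht', ← hb, ← hc, map_mul,
        show (1 : B) ⊗ₜ[A] (algebraMap (CAlg2.red A) (FractionRing (CAlg2.red A)) s *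
          algebraMap _ _ t) = (1 ⊗ₜ algebraMap _ _ s) * (1 ⊗ₜ algebraMap _ _ t) by
          rw [Algebra.TensorProduct.tmul_mul_tmul, mul_one]]
      ring
  obtain ⟨s, hs, b, hb⟩ := key z
  have h1 : algebraMap (CAlg2.red B) (FractionRing (CAlg2.red B))
      (Ideal.Quotient.mk (nilradical B) b) = 0 := by
    have h := congrArg (tensMap A B) hb
    rw [map_mul, hz, zero_mul, tensMap_tmul, map_one, mul_one] at h
    exact h.symm
  rw [IsFractionRing.to_map_eq_zero_iff, Ideal.Quotient.eq_zero_iff_mem] at h1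
  have h2 : IsNilpotent (b ⊗ₜ[A] (1 : FractionRing (CAlg2.red A))) :=
    (mem_nilradical.mp h1).map (Algebra.TensorProduct.includeLeftRingHom)
  rw [← hb] at h2
  have hu : IsUnit ((1 : B) ⊗ₜ[A] algebraMap (CAlg2.red A) (FractionRing (CAlg2.red A)) s) :=
    (IsLocalization.map_units _ (⟨s, hs⟩ : (CAlg2.red A)⁰)).map
      (Algebra.TensorProduct.includeRight : FractionRing (CAlg2.red A) →ₐ[A] _)
  obtain ⟨n, hn⟩ := h2
  rw [mul_pow] at hn
  exact ⟨n, (hu.pow n).mul_left_eq_zero.mp hn⟩

/-- Every maximal ideal of the normalisation extends. -/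
theorem exists_maximal_over (M : Ideal (CAlg2.normRed A)) [M.IsMaximal] :
    ∃ M' : Ideal (CAlg2.normRed B), M'.IsMaximal ∧ M'.comap (normMap A B) = M := by
  letI : Algebra B (CAlg2.normRed B) := (toNormRed B).toAlgebra
  letI : Algebra A (CAlg2.normRed B) := ((toNormRed B).comp (algebraMap A B)).toAlgebra
  haveI : IsScalarTower A B (CAlg2.normRed B) := .of_algebraMap_eq fun _ => rfl
  let Ψ : B ⊗[A] CAlg2.normRed A →ₐ[B] CAlg2.normRed B :=
    Algebra.TensorProduct.lift (Algebra.ofId B _)
      (AlgHom.mk (normMap A B) fun a =>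
        (congrArg (normMap A B) (IsScalarTower.algebraMap_apply A (CAlg2.red A) (CAlg2.normRed A) a)).trans
          (normMap_toNormRed A B a))
      fun x y => mul_comm _ _
  haveI : Algebra.IsIntegral B (CAlg2.normRed B) := by
    refine ⟨fun x => ?_⟩
    haveI : IsScalarTower B (CAlg2.red B) (CAlg2.normRed B) := .of_algebraMap_eq fun _ => rfl
    haveI : Algebra.IsIntegral B (CAlg2.red B) := ⟨fun y => by
      obtain ⟨b, rfl⟩ := Ideal.Quotient.mk_surjective y
      exact isIntegral_algebraMap⟩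
    exact isIntegral_trans x (IsIntegralClosure.isIntegral (CAlg2.red B)
      (FractionRing (CAlg2.red B)) x)
  have hker : ∀ x, Ψ x = 0 → IsNilpotent x := by
    intro x hx
    let ι : CAlg2.normRed A →ₐ[A] FractionRing (CAlg2.red A) :=
      (Subalgebra.val (integralClosure (CAlg2.red A) (FractionRing (CAlg2.red A)))).restrictScalars A
    let φ := Algebra.TensorProduct.map (AlgHom.id A B) ι
    have hφ : Function.Injective φ :=
      Module.Flat.lTensor_preserves_injective_linearMap (M := B) ι.toLinearMap Subtype.val_injective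
    have hc : ∀ w, tensMap A B (φ w) = ((Ψ w : CAlg2.normRed B) : FractionRing (CAlg2.red B)) := by
      intro w
      induction w using TensorProduct.induction_on with
      | zero => simp
      | tmul y r => exact tensMap_tmul A B y r.1
      | add v w hv hw => rw [map_add, map_add, map_add, hv, hw]; rfl
    exact (IsNilpotent.map_iff hφ).mp (isNilpotent_of_tensMap_eq_zero A B _ (by rw [hc, hx]; rfl))
  obtain ⟨p, hp⟩ := PrimeSpectrum.comap_surjective_of_faithfullyFlat
    (A := CAlg2.normRed A) (B := CAlg2.normRed A ⊗[A] B) ⟨M, inferInstance⟩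
  let P : Ideal (B ⊗[A] CAlg2.normRed A) :=
    p.asIdeal.comap (Algebra.TensorProduct.comm A B (CAlg2.normRed A)).toRingHom
  haveI : P.IsPrime := Ideal.IsPrime.comap _
  obtain ⟨Mt, hMt, hle⟩ := Ideal.exists_le_maximal P Ideal.IsPrime.ne_top'
  haveI := hMt
  letI : Algebra (B ⊗[A] CAlg2.normRed A) (CAlg2.normRed B) := Ψ.toRingHom.toAlgebra
  haveI : IsScalarTower B (B ⊗[A] CAlg2.normRed A) (CAlg2.normRed B) :=
    .of_algebraMap_eq fun b => (Ψ.commutes b).symm
  haveI : Algebra.IsIntegral (B ⊗[A] CAlg2.normRed A) (CAlg2.normRed B) :=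
    ⟨fun x => (Algebra.IsIntegral.isIntegral (R := B) x).tower_top⟩
  obtain ⟨Q, hQ, hQc⟩ := Ideal.exists_ideal_over_maximal_of_isIntegral (S := CAlg2.normRed B) Mt
    fun x hx => nilradical_le_prime Mt (hker x hx)
  refine ⟨Q, hQ, ((‹M.IsMaximal›).eq_of_le (Ideal.IsPrime.comap _).ne_top fun r hr => ?_).symm⟩
  show normMap A B r ∈ Q
  have h1 : Ψ ((1 : B) ⊗ₜ r) = normMap A B r :=
    (Algebra.TensorProduct.lift_tmul _ _ _ _ _).trans (by rw [map_one, one_mul]; rfl)
  rw [← h1]
  have h2 : (1 : B) ⊗ₜ[A] r ∈ P := by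
    have := SetLike.ext_iff.mp (congrArg PrimeSpectrum.asIdeal hp) r
    exact this.mpr hr
  exact SetLike.ext_iff.mp hQc _ |>.mpr (hle h2)

end Groth.Agent.BranchLib

end
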