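import Groth.Agent.BranchLib.CplBranch

/-!
# Branch counts of a local ring and of its completion
-/

set_option autoImplicit false
set_option linter.style.haveILetI false
set_option linter.unusedSectionVars false

universe u

open TensorProduct IsLocalRing nonZeroDivisors

noncomputable section

namespace Groth.Agent.BranchLib

open NormalTensor (toNormRed)

lemma isIntegral_of_split {A B K L : Type u} [CommRing A] [CommRing B] [CommRing K] [CommRing L]
    (i : A →+* B) (p : A →+* K) (q : B →+* L) (θ : K →+* L) (he : θ.comp p = q.comp i)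
    (hq : q.IsIntegral) (hs : ∀ b, ∃ a, q b = q (i a)) : θ.IsIntegral := by
  refine RingHom.IsIntegral.tower_top p _ ?_
  rw [he]
  have h2 : Function.Surjective (q.rangeRestrict.comp i) := fun y => by
    obtain ⟨b, hb⟩ := q.rangeRestrict_surjective y
    obtain ⟨a, ha⟩ := hs b
    exact ⟨a, hb ▸ Subtype.ext ha.symm⟩
  exact RingHom.IsIntegral.trans (q.rangeRestrict.comp i) q.range.subtype
    (RingHom.isIntegral_of_surjective _ h2) (RingHom.IsIntegral.tower_top q.rangeRestrict _ hq)

lemma exists_extension {K L C : Type u} [CommRing K] [CommRing L] [Field C] [IsAlgClosed C]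
    (hK : IsField K) [IsDomain L] (θ : K →+* L) (hθ : θ.IsIntegral) (τ : K →+* C) :
    ∃ σ : L →+* C, σ.comp θ = τ := by
  letI := hK.toField
  letI := θ.toAlgebra
  letI := τ.toAlgebra
  haveI : Algebra.IsIntegral K L := ⟨hθ⟩
  exact ⟨(IsAlgClosed.lift : L →ₐ[K] C).toRingHom, RingHom.ext (IsAlgClosed.lift : L →ₐ[K] C).commutes⟩

variable (A B : Type u) [CommRing A] [CommRing B] [IsLocalRing A] [IsLocalRing B] [Algebra A B]
  [Module.FaithfullyFlat A B]

lemma isIntegral_toNormRed (R : Type u) [CommRing R] : (toNormRed R).IsIntegral := by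
  refine RingHom.IsIntegral.trans _ _
    (RingHom.isIntegral_of_surjective _ Ideal.Quotient.mk_surjective) fun x => ?_
  exact IsIntegralClosure.isIntegral (CAlg2.red R) (FractionRing (CAlg2.red R)) x

lemma comap_toNormRed_eq {R : Type u} [CommRing R] [IsLocalRing R] (M : Ideal (CAlg2.normRed R))
    [hM : M.IsMaximal] : M.comap (toNormRed R) = maximalIdeal R :=
  IsLocalRing.eq_maximalIdeal
    (Ideal.isMaximal_comap_of_isIntegral_of_isMaximal' _ (isIntegral_toNormRed R) M)

lemma toResidue_eq_zero {R : Type u} [CommRing R] [IsLocalRing R]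
    (M : MaximalSpectrum (CAlg2.normRed R)) {y : R} (hy : y ∈ maximalIdeal R) :
    Brnch.toResidue R M y = 0 := by
  haveI := M.isMaximal
  rw [← comap_toNormRed_eq M.asIdeal] at hy
  exact Ideal.Quotient.eq_zero_iff_mem.mpr hy

variable (hm : maximalIdeal B = (maximalIdeal A).map (algebraMap A B))
  (hsplit : ∀ b : B, ∃ a, b - algebraMap A B a ∈ maximalIdeal B)

include hm in
lemma algebraMap_mem {a : A} (ha : a ∈ maximalIdeal A) : algebraMap A B a ∈ maximalIdeal B := by
  rw [hm]; exact Ideal.mem_map_of_mem _ ha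

include hm in
lemma comap_normMap_isMaximal (M' : Ideal (CAlg2.normRed B)) [M'.IsMaximal] :
    (M'.comap (normMap A B)).IsMaximal := by
  haveI : (M'.comap (normMap A B)).IsPrime := Ideal.IsPrime.comap _
  refine Ideal.isMaximal_of_isIntegral_of_isMaximal_comap' _ (isIntegral_toNormRed A) _ ?_
  have : (M'.comap (normMap A B)).comap (toNormRed A) = maximalIdeal A := by
    refine ((maximalIdeal.isMaximal A).eq_of_le (Ideal.IsPrime.comap _).ne_top fun a ha => ?_).symm
    show normMap A B (toNormRed A a) ∈ M'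
    rw [normMap_toNormRed, ← Ideal.mem_comap, comap_toNormRed_eq]
    exact algebraMap_mem A B hm ha
  rw [this]
  exact maximalIdeal.isMaximal A

/-- The map on maximal ideals. -/
def maxMap (M' : MaximalSpectrum (CAlg2.normRed B)) : MaximalSpectrum (CAlg2.normRed A) :=
  ⟨M'.asIdeal.comap (normMap A B), haveI := M'.isMaximal; comap_normMap_isMaximal A B hm M'.asIdeal⟩

/-- The map on residue fields. -/
def resMap (M' : MaximalSpectrum (CAlg2.normRed B)) :
    CAlg2.normRed A ⧸ (maxMap A B hm M').asIdeal →+* CAlg2.normRed B ⧸ M'.asIdeal :=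
  Ideal.quotientMap M'.asIdeal (normMap A B) le_rfl

lemma resMap_toResidue (M' : MaximalSpectrum (CAlg2.normRed B)) (a : A) :
    resMap A B hm M' (Brnch.toResidue A (maxMap A B hm M') a) =
      Brnch.toResidue B M' (algebraMap A B a) := by
  show resMap A B hm M' (Ideal.Quotient.mk _ (toNormRed A a)) = _
  rw [NormalTensor.toResidue_eq, ← normMap_toNormRed]
  exact Ideal.quotientMap_mk

theorem surjective_maxMap : Function.Surjective (maxMap A B hm) := fun M => by
  haveI := M.isMaximal
  obtain ⟨M', h1, h2⟩ := exists_maximal_over A B M.asIdeal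
  exact ⟨⟨M', h1⟩, MaximalSpectrum.ext h2⟩

include hsplit in
lemma resMap_isIntegral (M' : MaximalSpectrum (CAlg2.normRed B)) :
    RingHom.IsIntegral (R := CAlg2.normRed A ⧸ (maxMap A B hm M').asIdeal)
      (A := CAlg2.normRed B ⧸ M'.asIdeal) (resMap A B hm M') := by
  refine isIntegral_of_split (K := CAlg2.normRed A ⧸ (maxMap A B hm M').asIdeal)
    (L := CAlg2.normRed B ⧸ M'.asIdeal) (algebraMap A B) (Brnch.toResidue A (maxMap A B hm M'))
    (Brnch.toResidue B M') (resMap A B hm M') (RingHom.ext (resMap_toResidue A B hm M')) ?_ fun b => ?_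
  · intro x
    obtain ⟨y, rfl⟩ := Ideal.Quotient.mk_surjective x
    obtain ⟨p, hp, h0⟩ := isIntegral_toNormRed B y
    refine ⟨p, hp, ?_⟩
    exact (Polynomial.hom_eval₂ p (toNormRed B) (Ideal.Quotient.mk M'.asIdeal) y).symm.trans
      ((congrArg _ h0).trans (map_zero _))
  · obtain ⟨a, ha⟩ := hsplit b
    have h := toResidue_eq_zero M' ha
    rw [map_sub, sub_eq_zero] at h
    exact ⟨a, h⟩

include hsplit in
/-- The map of geometric branches. -/
theorem exists_geom_surj :
    ∃ G : (Σ M' : MaximalSpectrum (CAlg2.normRed B), Brnch.Emb B M') →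
        Σ M : MaximalSpectrum (CAlg2.normRed A), Brnch.Emb A M,
      Function.Surjective G ∧
      ((∀ M', Function.Surjective (resMap A B hm M')) → Function.Injective (maxMap A B hm) →
        Function.Injective G) := by
  haveI : IsLocalHom (algebraMap A B) := by
    refine ⟨fun a ha => ?_⟩
    by_contra hna
    exact (algebraMap_mem A B hm ((IsLocalRing.mem_maximalIdeal a).mpr hna)) ha
  have hbij : Function.Bijective (ResidueField.map (algebraMap A B)) := by
    refine ⟨RingHom.injective _, fun x => ?_⟩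
    obtain ⟨b, rfl⟩ := residue_surjective x
    obtain ⟨a, ha⟩ := hsplit b
    refine ⟨residue A a, ?_⟩
    rw [ResidueField.map_residue]
    exact (sub_eq_zero.mp (by rw [← map_sub, residue_eq_zero_iff]; exact ha)).symm
  let ψ : ResidueField A ≃+* ResidueField B := RingEquiv.ofBijective _ hbij
  let ι : AlgebraicClosure (ResidueField A) ≃+* AlgebraicClosure (ResidueField B) :=
    IsAlgClosure.equivOfEquiv _ _ ψ
  have hι : ∀ a, ι (Brnch.toClosure A a) = Brnch.toClosure B (algebraMap A B a) := fun a => by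
    show ι (algebraMap (ResidueField A) _ (residue A a)) = _
    rw [IsAlgClosure.equivOfEquiv_algebraMap]
    rfl
  let G : (Σ M' : MaximalSpectrum (CAlg2.normRed B), Brnch.Emb B M') →
      Σ M : MaximalSpectrum (CAlg2.normRed A), Brnch.Emb A M := fun x =>
    ⟨maxMap A B hm x.1, ⟨(ι.symm.toRingHom.comp x.2.1).comp (resMap A B hm x.1),
      RingHom.ext fun a => by
        show ι.symm (x.2.1 (resMap A B hm x.1 _)) = _
        rw [resMap_toResidue, RingEquiv.symm_apply_eq, hι]
        exact RingHom.congr_fun x.2.2 _⟩⟩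
  refine ⟨G, ?_, ?_⟩
  · rintro ⟨M, τ⟩
    obtain ⟨M', rfl⟩ := surjective_maxMap A B hm M
    haveI := (maxMap A B hm M').isMaximal
    haveI := M'.isMaximal
    obtain ⟨σ, hσ⟩ := exists_extension (K := CAlg2.normRed A ⧸ (maxMap A B hm M').asIdeal)
      (L := CAlg2.normRed B ⧸ M'.asIdeal)
      ((Ideal.Quotient.maximal_ideal_iff_isField_quotient _).mp inferInstance)
      (resMap A B hm M') (resMap_isIntegral A B hm hsplit M') (ι.toRingHom.comp τ.1)
    refine ⟨⟨M', σ, RingHom.ext fun b => ?_⟩, ?_⟩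
    · obtain ⟨a, ha⟩ := hsplit b
      have hb : b = algebraMap A B a + (b - algebraMap A B a) := (add_sub_cancel _ _).symm
      have h0 : Brnch.toClosure B (b - algebraMap A B a) = 0 := by
        show algebraMap (ResidueField B) _ (residue B _) = 0
        rw [(residue_eq_zero_iff _).mpr ha, map_zero]
      show σ (Brnch.toResidue B M' b) = Brnch.toClosure B b
      rw [hb, map_add, map_add (Brnch.toClosure B), toResidue_eq_zero M' ha, h0, add_zero, add_zero,
        ← resMap_toResidue A B hm M', ← hι]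
      exact (RingHom.congr_fun hσ _).trans (congrArg ι (RingHom.congr_fun τ.2 a))
    · refine Sigma.ext rfl (heq_of_eq (Subtype.ext (RingHom.ext fun w => ?_)))
      show ι.symm (σ (resMap A B hm M' w)) = τ.1 w
      rw [RingEquiv.symm_apply_eq]
      exact RingHom.congr_fun hσ w
  · rintro hs hi ⟨M₁, σ₁⟩ ⟨M₂, σ₂⟩ h
    obtain rfl : M₁ = M₂ := hi (congrArg Sigma.fst h)
    have h' := eq_of_heq (Sigma.ext_iff.mp h).2
    refine Sigma.ext rfl (heq_of_eq (Subtype.ext (RingHom.ext fun w => ?_)))
    obtain ⟨v, rfl⟩ := hs M₁ w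
    exact ι.symm.injective (RingHom.congr_fun (congrArg Subtype.val h') v)

include hm hsplit in
theorem numBranches_le [IsNoetherianRing A] [IsNoetherianRing B] :
    Brnch.numBranches A ≤ Brnch.numBranches B ∧
      Brnch.numGeomBranches A ≤ Brnch.numGeomBranches B := by
  obtain ⟨G, hG, -⟩ := exists_geom_surj A B hm hsplit
  unfold Brnch.numBranches Brnch.numGeomBranches
  simp only [if_pos (minimalPrimes.finite_of_isNoetherianRing _)]
  exact ⟨ENat.card_le_card_of_injective
      (Function.injective_surjInv (surjective_maxMap A B hm)),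
    ENat.card_le_card_of_injective (Function.injective_surjInv hG)⟩

/-- An element of the total ring of fractions integral over the extension is integral. -/
theorem isIntegral_of_fracMap [IsNoetherianRing B] {r : FractionRing (CAlg2.red A)}
    (hr : IsIntegral (CAlg2.red B) (fracMap A B r)) : IsIntegral (CAlg2.red A) r := by
  obtain ⟨p, hp, h0⟩ := hr
  haveI : Nontrivial (B ⧸ nilradical B) := Ideal.Quotient.nontrivial_iff.mpr fun h =>
    not_isNilpotent_one (R := B) (mem_nilradical.mp ((Ideal.eq_top_iff_one _).mp h))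
  obtain ⟨q, hq, -, hqm⟩ := Polynomial.lifts_and_degree_eq_and_monic
    (Polynomial.map_surjective (Ideal.Quotient.mk (nilradical B)) Ideal.Quotient.mk_surjective p) hp
  have h1 : tensMap A B (Polynomial.aeval ((1 : B) ⊗ₜ[A] r) q) = 0 := by
    rw [Polynomial.aeval_def, Polynomial.hom_eval₂, tensMap_tmul, map_one, map_one, one_mul]
    rw [← hq, Polynomial.eval₂_map] at h0
    have hc : (tensMap A B).comp (algebraMap B (B ⊗[A] FractionRing (CAlg2.red A))) =
        (algebraMap (CAlg2.red B) (FractionRing (CAlg2.red B))).comp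
          (Ideal.Quotient.mk (nilradical B)) := RingHom.ext fun b => by
      show tensMap A B (b ⊗ₜ 1) = _
      rw [tensMap_tmul, map_one, mul_one]
      rfl
    rw [hc]; exact h0
  obtain ⟨n, hn⟩ := isNilpotent_of_tensMap_eq_zero A B _ h1
  have hint : IsIntegral B ((1 : B) ⊗ₜ[A] r) := ⟨q ^ n, hqm.pow n, by
    rw [← Polynomial.aeval_def, map_pow, hn]⟩
  haveI : Module.Finite B (Algebra.adjoin B {(1 : B) ⊗ₜ[A] r}) :=
    ⟨(Submodule.fg_top _).mpr hint.fg_adjoin_singleton⟩
  haveI := isNoetherian_of_isNoetherianRing_of_finite B (Algebra.adjoin B {(1 : B) ⊗ₜ[A] r})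
  let S := Algebra.adjoin A {r}
  let φ : B ⊗[A] S →ₐ[B] B ⊗[A] FractionRing (CAlg2.red A) :=
    Algebra.TensorProduct.map (AlgHom.id B B) S.val
  have hφ : Function.Injective φ :=
    Module.Flat.lTensor_preserves_injective_linearMap (M := B) S.val.toLinearMap Subtype.val_injective
  have hmem : ∀ x : B ⊗[A] S, φ x ∈ Algebra.adjoin B {(1 : B) ⊗ₜ[A] r} := by
    intro x
    induction x using TensorProduct.induction_on with
    | zero => rw [map_zero]; exact zero_mem _
    | tmul b s =>
      obtain ⟨g, hg⟩ := (Algebra.adjoin_singleton_eq_range_aeval A r ▸ s.2 :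
        (s : FractionRing (CAlg2.red A)) ∈ (Polynomial.aeval (R := A) r).range)
      have h2 : φ (b ⊗ₜ s) = algebraMap B _ b *
          Polynomial.aeval ((1 : B) ⊗ₜ[A] r) (g.map (algebraMap A B)) := by
        rw [Polynomial.aeval_map_algebraMap,
          show ((1 : B) ⊗ₜ[A] r) = (Algebra.TensorProduct.includeRight :
            FractionRing (CAlg2.red A) →ₐ[A] B ⊗[A] FractionRing (CAlg2.red A)) r from rfl,
          Polynomial.aeval_algHom_apply]
        show b ⊗ₜ[A] (s : FractionRing (CAlg2.red A)) = (b ⊗ₜ 1) * ((1 : B) ⊗ₜ _)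
        rw [Algebra.TensorProduct.tmul_mul_tmul, mul_one, one_mul]
        exact congrArg _ hg.symm
      rw [h2]
      exact mul_mem (Subalgebra.algebraMap_mem _ _) (Polynomial.aeval_mem_adjoin_singleton _ _)
    | add x y hx hy => rw [map_add]; exact add_mem hx hy
  haveI : Module.Finite B (B ⊗[A] S) :=
    Module.Finite.of_injective (φ.codRestrict _ hmem).toLinearMap
      fun x y h => hφ (congrArg Subtype.val h)
  haveI : Module.Finite A S := Module.Finite.of_finite_tensorProduct_of_faithfullyFlat B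
  have hA : IsIntegral A r :=
    IsIntegral.of_mem_of_fg S ((Submodule.fg_top _).mp Module.Finite.fg_top) r
      (Algebra.self_mem_adjoin_singleton A r)
  exact hA.tower_top

include hm hsplit in
lemma exists_sub_mem_map_pow (M : ℕ) :
    ∀ b : B, ∃ a : A, b - algebraMap A B a ∈ (maximalIdeal A ^ M).map (algebraMap A B) := by
  induction M with
  | zero => intro b; exact ⟨0, by simp [Ideal.map_top]⟩
  | succ M ih =>
    intro b
    obtain ⟨a, ha⟩ := ih b
    suffices ∀ z ∈ (maximalIdeal A ^ M).map (algebraMap A B), ∃ a : A,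
        z - algebraMap A B a ∈ (maximalIdeal A ^ (M + 1)).map (algebraMap A B) by
      obtain ⟨a', ha'⟩ := this _ ha
      exact ⟨a + a', by rwa [map_add, ← sub_sub]⟩
    intro z hz
    refine Submodule.span_induction ?_ ?_ ?_ ?_ hz
    · rintro _ ⟨x, hx, rfl⟩
      exact ⟨x, by simp⟩
    · exact ⟨0, by simp⟩
    · rintro x y - - ⟨a₁, h₁⟩ ⟨a₂, h₂⟩
      exact ⟨a₁ + a₂, by rw [map_add, add_sub_add_comm]; exact add_mem h₁ h₂⟩
    · rintro c x hx ⟨a₁, h₁⟩
      obtain ⟨a₀, h₀⟩ := hsplit c
      rw [hm] at h₀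
      refine ⟨a₀ * a₁, ?_⟩
      have e : c • x - algebraMap A B (a₀ * a₁) =
          (c - algebraMap A B a₀) * x + algebraMap A B a₀ * (x - algebraMap A B a₁) := by
        rw [smul_eq_mul, map_mul]; ring
      rw [e]
      refine add_mem ?_ (Ideal.mul_mem_left _ _ h₁)
      rw [pow_succ', Ideal.map_mul]
      exact Ideal.mul_mem_mul h₀ hx

include hm hsplit in
/-- In dimension one the normalisations have the same residues. -/
theorem exists_approx [IsNoetherianRing A] [IsNoetherianRing B] (hA : ringKrullDim A = 1)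
    (z : CAlg2.normRed B) : ∃ r : CAlg2.normRed A,
      ∀ M' : Ideal (CAlg2.normRed B), M'.IsMaximal → z - normMap A B r ∈ M' := by
  obtain ⟨s, hs, hsmin⟩ : ∃ s ∈ maximalIdeal A, ∀ P ∈ minimalPrimes A, s ∉ P := by
    by_contra! h
    have hsub : (maximalIdeal A : Set A) ⊆ ⋃ P ∈ minimalPrimes A, (P : Set A) :=
      fun x hx => by obtain ⟨P, hP, hxP⟩ := h x hx; exact Set.mem_biUnion hP hxP
    obtain ⟨P, hP, hle⟩ := (Ideal.subset_union_prime_finite
      (minimalPrimes.finite_of_isNoetherianRing A) (⊥ : Ideal A) (⊥ : Ideal A)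
      fun P hP _ _ => hP.1.1).mp hsub
    haveI := hP.1.1
    have hPm : P = maximalIdeal A := le_antisymm (IsLocalRing.le_maximalIdeal hP.1.1.ne_top) hle
    have h0 := Ideal.height_eq_zero_iff.mpr hP
    have h1 := IsLocalRing.maximalIdeal_height_eq_ringKrullDim (R := A)
    rw [← hPm, h0, hA] at h1
    exact zero_ne_one (by exact_mod_cast h1 : (0 : ℕ∞) = 1)
  -- powers of the maximal ideal lie in `(s)`
  have hrad : maximalIdeal A ≤ (Ideal.span {s}).radical := by
    rw [Ideal.radical_eq_sInf, le_sInf_iff]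
    rintro J ⟨hsJ, hJ⟩
    haveI := hJ
    by_contra hne
    have hlt : J < maximalIdeal A := lt_of_le_not_ge (IsLocalRing.le_maximalIdeal hJ.ne_top) hne
    have hJ0 : J.height ≠ 0 := fun h => hsmin J (Ideal.height_eq_zero_iff.mp h)
      (hsJ (Ideal.mem_span_singleton_self s))
    have h2 : J.height + 1 ≤ (maximalIdeal A).height := Ideal.height_add_one_le_of_lt_of_isPrime hlt
    have h1 := IsLocalRing.maximalIdeal_height_eq_ringKrullDim (R := A)
    rw [hA] at h1
    have h1' : (maximalIdeal A).height = 1 := by exact_mod_cast h1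
    rw [h1'] at h2
    exact hJ0 (ENat.lt_one_iff_eq_zero.mp ((ENat.add_one_le_iff (by
      intro h; rw [h] at h2; simp at h2)).mp h2))
  obtain ⟨N, hN⟩ := Ideal.exists_pow_le_of_le_radical_of_fg hrad
    (maximalIdeal A).fg_of_isNoetherianRing
  -- the image of `s` is a system of parameters upstairs
  let t := algebraMap A B s
  have ht : t ∈ maximalIdeal B := algebraMap_mem A B hm hs
  have hBrad : ∀ P : Ideal B, P.IsPrime → P ≠ maximalIdeal B → P ∈ minimalPrimes B := by
    intro P hP hne
    haveI := hP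
    have hmax : maximalIdeal B ∈ (Ideal.span {t}).minimalPrimes := by
      refine ⟨⟨inferInstance, (Ideal.span_singleton_le_iff_mem (maximalIdeal B)).mpr ht⟩, fun Q hQ hQle => ?_⟩
      haveI := hQ.1
      rw [hm, Ideal.map_le_iff_le_comap]
      intro x hx
      obtain ⟨k, hk⟩ := hrad hx
      obtain ⟨c, hc⟩ := Ideal.mem_span_singleton'.mp hk
      refine hQ.1.mem_of_pow_mem k ?_
      rw [← map_pow, ← hc, map_mul]
      exact Q.mul_mem_left _ (hQ.2 (Ideal.mem_span_singleton_self t))
    have h1 := Ideal.height_le_one_of_isPrincipal_of_mem_minimalPrimes _ _ hmax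
    have hlt : P < maximalIdeal B := lt_of_le_of_ne (IsLocalRing.le_maximalIdeal hP.ne_top) hne
    have h2 : P.height + 1 ≤ 1 := (Ideal.height_add_one_le_of_lt_of_isPrime hlt).trans h1
    refine Ideal.height_eq_zero_iff.mp (ENat.lt_one_iff_eq_zero.mp ((ENat.add_one_le_iff ?_).mp h2))
    intro h; rw [h] at h2; simp at h2
  obtain ⟨⟨b, d⟩, hbd⟩ := IsLocalization.surj (CAlg2.red B)⁰ (z : FractionRing (CAlg2.red B))
  obtain ⟨b, rfl⟩ := Ideal.Quotient.mk_surjective b
  obtain ⟨d₀, hd₀⟩ := Ideal.Quotient.mk_surjective (d : CAlg2.red B)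
  have htrad : t ∈ (Ideal.span {d₀}).radical := by
    rw [Ideal.radical_eq_sInf, Submodule.mem_sInf]
    rintro P ⟨hdP, hP⟩
    by_contra htP
    have hP0 := hBrad P hP fun h => htP (h ▸ ht)
    exact notMem_minimalPrimes_of_nzd (hd₀ ▸ d.2) hP0 (hdP (Ideal.mem_span_singleton_self d₀))
  obtain ⟨n, hn⟩ := htrad
  obtain ⟨c, hc⟩ := Ideal.mem_span_singleton'.mp hn
  -- `b * c` is congruent to an element of `A` modulo `t ^ (n + 1)`
  obtain ⟨a, ha⟩ := exists_sub_mem_map_pow A B hm hsplit (N * (n + 1)) (b * c)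
  rw [pow_mul] at ha
  obtain ⟨w, hw⟩ : ∃ w, b * c - algebraMap A B a = w * t ^ (n + 1) := by
    have h := Ideal.map_mono (f := algebraMap A B) (Ideal.pow_right_mono hN (n + 1)) ha
    rw [Ideal.span_singleton_pow, Ideal.map_span, Set.image_singleton, map_pow] at h
    obtain ⟨w, hw⟩ := Ideal.mem_span_singleton'.mp h
    exact ⟨w, hw.symm⟩
  have hsA : Ideal.Quotient.mk (nilradical A) s ∈ (CAlg2.red A)⁰ := mk_mem_nonZeroDivisors hsmin
  let r₀ : FractionRing (CAlg2.red A) := IsLocalization.mk' _ (Ideal.Quotient.mk (nilradical A) a)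
    (⟨_, pow_mem hsA n⟩ : (CAlg2.red A)⁰)
  let F : B →+* FractionRing (CAlg2.red B) :=
    (algebraMap (CAlg2.red B) _).comp (Ideal.Quotient.mk (nilradical B))
  have hFt : IsUnit (F t) :=
    IsLocalization.map_units _ (⟨_, nonZeroDivisors_le_comap A B hsA⟩ : (CAlg2.red B)⁰)
  have e1 : fracMap A B r₀ * F t ^ n = F (algebraMap A B a) := by
    have h := congrArg (fracMap A B) (IsLocalization.mk'_spec (FractionRing (CAlg2.red A))
      (Ideal.Quotient.mk (nilradical A) a) (⟨_, pow_mem hsA n⟩ : (CAlg2.red A)⁰))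
    rw [map_mul, fracMap_algebraMap, fracMap_algebraMap, map_pow, map_pow] at h
    exact h
  have e2 : (z : FractionRing (CAlg2.red B)) * F t ^ n = F (b * c) := by
    rw [← map_pow, ← hc, map_mul, map_mul]
    have hbd' : (z : FractionRing (CAlg2.red B)) * F d₀ = F b := by
      rw [show F d₀ = algebraMap (CAlg2.red B) _ (d : CAlg2.red B) from
        congrArg (algebraMap (CAlg2.red B) (FractionRing (CAlg2.red B))) hd₀]
      exact hbd
    rw [← hbd']; ring
  have e3 : fracMap A B r₀ = (z : FractionRing (CAlg2.red B)) - F (w * t) := by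
    apply (hFt.pow n).mul_left_injective
    show fracMap A B r₀ * F t ^ n = _ * F t ^ n
    rw [sub_mul, e2, e1, ← map_pow, ← map_mul, ← map_sub]
    exact congrArg F (by rw [mul_assoc, ← pow_succ', ← hw]; ring)
  have hr : IsIntegral (CAlg2.red A) r₀ := by
    refine isIntegral_of_fracMap A B ?_
    rw [e3]
    exact (z.2).sub isIntegral_algebraMap
  refine ⟨⟨r₀, hr⟩, fun M' hM' => ?_⟩
  have e4 : z - normMap A B ⟨r₀, hr⟩ = toNormRed B (w * t) := by
    refine Subtype.ext ?_
    show (z : FractionRing (CAlg2.red B)) - fracMap A B r₀ = _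
    rw [e3, sub_sub_cancel]
    rfl
  rw [e4, ← Ideal.mem_comap, comap_toNormRed_eq]
  exact Ideal.mul_mem_left _ _ ht

include hm hsplit in
theorem numBranches_eq [IsNoetherianRing A] [IsNoetherianRing B] (hA : ringKrullDim A = 1) :
    Brnch.numBranches B = Brnch.numBranches A ∧
      Brnch.numGeomBranches B = Brnch.numGeomBranches A := by
  obtain ⟨G, hG, hGi⟩ := exists_geom_surj A B hm hsplit
  have hinj : Function.Injective (maxMap A B hm) := fun M₁ M₂ h => by
    refine MaximalSpectrum.ext (M₁.isMaximal.eq_of_le M₂.isMaximal.ne_top fun v hv => ?_)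
    obtain ⟨r, hr⟩ := exists_approx A B hm hsplit hA v
    have h1 : r ∈ (maxMap A B hm M₁).asIdeal := by
      show normMap A B r ∈ M₁.asIdeal
      simpa using M₁.asIdeal.sub_mem hv (hr _ M₁.isMaximal)
    rw [h] at h1
    simpa using M₂.asIdeal.add_mem (hr _ M₂.isMaximal) (show normMap A B r ∈ M₂.asIdeal from h1)
  have hres : ∀ M', Function.Surjective (resMap A B hm M') := fun M' w => by
    obtain ⟨v, rfl⟩ := Ideal.Quotient.mk_surjective w
    obtain ⟨r, hr⟩ := exists_approx A B hm hsplit hA v
    exact ⟨Ideal.Quotient.mk _ r,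
      Ideal.quotientMap_mk.trans (Ideal.Quotient.eq.mpr (hr _ M'.isMaximal)).symm⟩
  unfold Brnch.numBranches Brnch.numGeomBranches
  simp only [if_pos (minimalPrimes.finite_of_isNoetherianRing _)]
  exact ⟨ENat.card_congr (Equiv.ofBijective _ ⟨hinj, surjective_maxMap A B hm⟩),
    ENat.card_congr (Equiv.ofBijective G ⟨hGi hres hinj, hG⟩)⟩

end Groth.Agent.BranchLib

end
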