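import Groth.Agent.NormalTensor.NormRed
import Groth.Prelude.Def_Brnch
import Mathlib.FieldTheory.PurelyInseparable.Basic
import Mathlib.FieldTheory.SeparableDegree
import Mathlib.SetTheory.Cardinal.Finite

/-!
The branches of a local ring with finitely many minimal primes are those of its irreducible components.
-/

set_option autoImplicit false
set_option linter.style.haveILetI false

universe u

open IsLocalRing

namespace Groth.Agent.BranchLib

/-- The canonical map to the normalisation of the reduction. -/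
noncomputable def toNorm (A : Type u) [CommRing A] : A →+* CAlg2.normRed A :=
  (algebraMap (CAlg2.red A) (CAlg2.normRed A)).comp (Ideal.Quotient.mk (nilradical A))

theorem enat_card_sigma {α : Type u} [Fintype α] (β : α → Type u) :
    ENat.card (Σ a, β a) = ∑ a, ENat.card (β a) := by
  revert β
  refine Fintype.induction_empty_option
    (P := fun α _ => ∀ β : α → Type u, ENat.card (Σ a, β a) = ∑ a, ENat.card (β a)) ?_ ?_ ?_ α
  · intro α γ _ e ih β
    letI := Fintype.ofEquiv γ e.symm
    rw [← ENat.card_congr (Equiv.sigmaCongrLeft e), ih, ← e.sum_comp]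
  · intro β
    rw [ENat.card_eq_zero_iff_empty _ |>.mpr inferInstance]
    simp
  · intro α _ ih β
    let f : (Σ a, β a) ≃ β none ⊕ Σ a, β (some a) :=
      { toFun := fun x => match x with
          | ⟨none, b⟩ => Sum.inl b
          | ⟨some a, b⟩ => Sum.inr ⟨a, b⟩
        invFun := fun x => match x with
          | Sum.inl b => ⟨none, b⟩
          | Sum.inr ⟨a, b⟩ => ⟨some a, b⟩
        left_inv := fun x => by rcases x with ⟨_ | a, b⟩ <;> rfl
        right_inv := fun x => by rcases x with b | ⟨a, b⟩ <;> rfl }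
    rw [ENat.card_congr f, ENat.card_sum, ih, Fintype.sum_option]

theorem isPrime_red {A : Type u} [CommRing A] (p : Ideal A) [p.IsPrime] : IsDomain (CAlg2.red (A ⧸ p)) := by
  have h : nilradical (A ⧸ p) = ⊥ := nilradical_eq_zero _
  exact ((Ideal.quotEquivOfEq h).trans (RingEquiv.quotientBot _)).toMulEquiv.isDomain _

theorem isIntegral_pi {R : Type u} [CommRing R] {ι : Type u} [Fintype ι] {E : ι → Type u}
    [∀ i, CommRing (E i)] [∀ i, Algebra R (E i)] (x : ∀ i, E i) (h : ∀ i, IsIntegral R (x i)) :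
    IsIntegral R x := by
  classical
  have hx : x = ∑ i, Pi.single i (x i) := (Finset.univ_sum_single x).symm
  rw [hx]
  refine IsIntegral.sum _ fun i _ => ?_
  obtain ⟨q, hq, hq0⟩ := h i
  refine ⟨Polynomial.X * q, Polynomial.monic_X.mul hq, ?_⟩
  funext j
  rw [← Polynomial.aeval_def, Pi.zero_apply]
  show Pi.evalAlgHom R E j _ = 0
  show Pi.evalAlgHom R E j (Polynomial.aeval (Pi.single i (x i)) (Polynomial.X * q)) = 0
  rw [← Polynomial.aeval_algHom_apply,
    Pi.evalAlgHom_apply, map_mul, Polynomial.aeval_X]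
  rcases eq_or_ne j i with rfl | hne
  · rw [Pi.single_eq_same, Polynomial.aeval_def, hq0, mul_zero]
  · rw [Pi.single_eq_of_ne hne, zero_mul]

variable (A : Type u) [CommRing A]

theorem exists_normRed_pi_equiv (h : (minimalPrimes A).Finite) :
    ∃ e : CAlg2.normRed A ≃+* (∀ p : minimalPrimes A, CAlg2.normRed (A ⧸ p.1)),
      ∀ a p, e (toNorm A a) p = toNorm (A ⧸ p.1) (Ideal.Quotient.mk p.1 a) := by
  classical
  haveI : Fintype (minimalPrimes A) := h.fintype
  haveI : ∀ p : minimalPrimes A, p.1.IsPrime := fun p => p.2.1.1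
  haveI : ∀ p : minimalPrimes A, IsDomain (CAlg2.red (A ⧸ p.1)) := fun p => isPrime_red p.1
  let E : minimalPrimes A → Type u := fun p => FractionRing (CAlg2.red (A ⧸ p.1))
  have hker : ∀ (p : minimalPrimes A) (a : A), algebraMap A (E p) a = 0 ↔ a ∈ p.1 := fun p a => by
    rw [IsScalarTower.algebraMap_apply A (CAlg2.red (A ⧸ p.1)) (E p),
      map_eq_zero_iff _ (IsFractionRing.injective _ (E p))]
    show Ideal.Quotient.mk (nilradical (A ⧸ p.1)) (Ideal.Quotient.mk p.1 a) = 0 ↔ _
    rw [Ideal.Quotient.eq_zero_iff_mem, nilradical_eq_zero, Submodule.zero_eq_bot, Ideal.mem_bot,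
      Ideal.Quotient.eq_zero_iff_mem]
  have hnil : ∀ a : A, (∀ p : minimalPrimes A, a ∈ p.1) ↔ a ∈ nilradical A := fun a => by
    rw [nilradical, ← Ideal.sInf_minimalPrimes (I := (0 : Ideal A)), Submodule.mem_sInf]
    exact ⟨fun hh P hP => hh ⟨P, hP⟩, fun hh p => hh _ p.2⟩
  have hsep : ∀ p : minimalPrimes A, ∃ e : A, e ∉ p.1 ∧ ∀ q, q ≠ p → e ∈ q.1 := fun p => by
    have h1 : ∀ q : {q // q ≠ p}, ∃ g ∈ q.1.1, g ∉ p.1 := fun q => Set.not_subset.mp fun hle =>
      q.2 (Subtype.ext (le_antisymm hle (p.2.2 ⟨inferInstance, bot_le⟩ hle)))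
    choose g hg1 hg2 using h1
    refine ⟨∏ q, g q, fun hmem => ?_, fun q hq => ?_⟩
    · obtain ⟨q, -, hq⟩ := (Ideal.IsPrime.prod_mem_iff (p := p.1)).mp hmem
      exact hg2 q hq
    · exact Ideal.mem_of_dvd _ (Finset.dvd_prod_of_mem g (Finset.mem_univ ⟨q, hq⟩)) (hg1 ⟨q, hq⟩)
  choose ε hε1 hε2 using hsep
  let R := CAlg2.red A
  let Q := ∀ p, E p
  let φ : R →+* Q := Ideal.Quotient.lift (nilradical A) (algebraMap A Q) fun a ha =>
    funext fun p => (hker p a).mpr ((hnil a).mpr ha p)
  letI : Algebra R Q := φ.toAlgebra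
  haveI : IsScalarTower A R Q := IsScalarTower.of_algebraMap_eq fun a => rfl
  have hmap : ∀ a p, algebraMap R Q (Ideal.Quotient.mk _ a) p = algebraMap A (E p) a := fun a p => rfl
  have hnzd : ∀ a : A, Ideal.Quotient.mk (nilradical A) a ∈ nonZeroDivisors R ↔
      ∀ p : minimalPrimes A, a ∉ p.1 := fun a => by
    rw [mem_nonZeroDivisors_iff_right]
    refine ⟨fun hh p hap => hε1 p ?_, fun hh x hx => ?_⟩
    · refine (hnil _).mpr ?_ p
      rw [← Ideal.Quotient.eq_zero_iff_mem]
      refine hh _ ?_
      rw [← map_mul, Ideal.Quotient.eq_zero_iff_mem, ← hnil]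
      intro q
      rcases eq_or_ne q p with rfl | hne
      · exact q.1.mul_mem_left _ hap
      · exact q.1.mul_mem_right _ (hε2 p q hne)
    · obtain ⟨x, rfl⟩ := Ideal.Quotient.mk_surjective x
      rw [← map_mul, Ideal.Quotient.eq_zero_iff_mem, ← hnil] at hx
      rw [Ideal.Quotient.eq_zero_iff_mem, ← hnil]
      exact fun p => ((inferInstance : p.1.IsPrime).mem_or_mem (hx p)).resolve_right (hh p)
  haveI : IsFractionRing R Q := (isLocalization_iff _ _).mpr (by
    refine ⟨?_, ?_, ?_⟩
    · rintro ⟨s, hs⟩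
      obtain ⟨a, rfl⟩ := Ideal.Quotient.mk_surjective s
      exact Pi.isUnit_iff.mpr fun p => isUnit_iff_ne_zero.mpr fun h0 =>
        (hnzd a).mp hs p ((hker p a).mp h0)
    · intro z
      choose x hx using fun p => IsLocalization.surj (nonZeroDivisors (CAlg2.red (A ⧸ p.1))) (z p)
      choose a ha using fun p => (Ideal.Quotient.mk_surjective.comp Ideal.Quotient.mk_surjective
        : Function.Surjective fun a : A =>
          Ideal.Quotient.mk (nilradical (A ⧸ p.1)) (Ideal.Quotient.mk p.1 a)) (x p).1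
      choose b hb using fun p => (Ideal.Quotient.mk_surjective.comp Ideal.Quotient.mk_surjective
        : Function.Surjective fun a : A =>
          Ideal.Quotient.mk (nilradical (A ⧸ p.1)) (Ideal.Quotient.mk p.1 a)) (x p).2.1
      have hb0 : ∀ p, b p ∉ p.1 := fun p hbp => by
        have h2 : algebraMap A (E p) (b p) = 0 := (hker p _).mpr hbp
        rw [IsScalarTower.algebraMap_apply A (CAlg2.red (A ⧸ p.1)) (E p)] at h2
        refine (IsLocalization.map_units (E p) (x p).2).ne_zero ?_
        rw [← hb p]; exact h2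
      have hcomp : ∀ (c : minimalPrimes A → A) (p : minimalPrimes A),
          algebraMap A (E p) (∑ q, ε q * c q) = algebraMap A (E p) (ε p * c p) := fun c p => by
        rw [map_sum]
        refine Finset.sum_eq_single p (fun q _ hq => ?_) (by simp)
        rw [map_mul, (hker p _).mpr (hε2 q p hq.symm), zero_mul]
      have hden : Ideal.Quotient.mk (nilradical A) (∑ q, ε q * b q) ∈ nonZeroDivisors R :=
        (hnzd _).mpr fun p hmem => by
          have h2 := (hker p _).mpr hmem
          rw [hcomp, hker] at h2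
          exact ((inferInstance : p.1.IsPrime).mem_or_mem h2).elim (hε1 p) (hb0 p)
      refine ⟨⟨Ideal.Quotient.mk _ (∑ q, ε q * a q), ⟨_, hden⟩⟩, funext fun p => ?_⟩
      show z p * algebraMap A (E p) (∑ q, ε q * b q) = algebraMap A (E p) (∑ q, ε q * a q)
      have h3 : z p * algebraMap A (E p) (b p) = algebraMap A (E p) (a p) := by
        rw [IsScalarTower.algebraMap_apply A (CAlg2.red (A ⧸ p.1)) (E p),
          IsScalarTower.algebraMap_apply A (CAlg2.red (A ⧸ p.1)) (E p)]
        refine Eq.trans ?_ ((hx p).trans ?_)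
        · rw [← hb p]; rfl
        · rw [← ha p]; rfl
      rw [hcomp, hcomp, map_mul, map_mul, ← h3]
      ring
    · intro x y hxy
      refine ⟨1, ?_⟩
      obtain ⟨x, rfl⟩ := Ideal.Quotient.mk_surjective x
      obtain ⟨y, rfl⟩ := Ideal.Quotient.mk_surjective y
      simp only [OneMemClass.coe_one, one_mul]
      rw [Ideal.Quotient.eq, ← hnil]
      intro p
      rw [← hker, map_sub, sub_eq_zero]
      exact congrFun hxy p)
  let C' := ∀ p : minimalPrimes A, CAlg2.normRed (A ⧸ p.1)
  let j : C' →ₐ[A] Q := Pi.algHom A E fun p =>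
    (((integralClosure (CAlg2.red (A ⧸ p.1)) (E p)).val).restrictScalars A).comp
      (Pi.evalAlgHom A (fun p : minimalPrimes A => CAlg2.normRed (A ⧸ p.1)) p)
  let ψ : R →+* C' := Ideal.Quotient.lift (nilradical A) (algebraMap A C') fun a ha =>
    funext fun p => Subtype.ext ((hker p a).mpr ((hnil a).mpr ha p))
  letI algRC : Algebra R C' := ψ.toAlgebra
  letI algCQ : Algebra C' Q := j.toRingHom.toAlgebra
  haveI hRCQ : @IsScalarTower R C' Q algRC.toSMul algCQ.toSMul _ := IsScalarTower.of_algebraMap_eq fun r => by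
    obtain ⟨a, rfl⟩ := Ideal.Quotient.mk_surjective r
    rfl
  haveI : Algebra.IsIntegral A R :=
    Algebra.IsIntegral.of_surjective (Ideal.Quotient.mkₐ A (nilradical A)) Ideal.Quotient.mk_surjective
  haveI : IsIntegralClosure C' R Q :=
    { algebraMap_injective := fun x y hxy => funext fun p => Subtype.ext (congrFun hxy p)
      isIntegral_iff := fun {x} => by
        constructor
        · intro hx
          have hxA : IsIntegral A x := isIntegral_trans (R := A) (A := R) x hx
          exact ⟨fun p => ⟨x p, (hxA.map (Pi.evalAlgHom A E p)).tower_top⟩, rfl⟩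
        · rintro ⟨y, rfl⟩
          refine IsIntegral.tower_top (R := A) (isIntegral_pi _ fun p => ?_)
          haveI : Algebra.IsIntegral A (CAlg2.red (A ⧸ p.1)) := Algebra.IsIntegral.of_surjective
            (Algebra.ofId A (CAlg2.red (A ⧸ p.1)))
            (Ideal.Quotient.mk_surjective.comp Ideal.Quotient.mk_surjective)
          exact isIntegral_trans (R := A) (A := CAlg2.red (A ⧸ p.1)) _ (y p).2 }
  obtain ⟨e, he⟩ := Groth.Agent.NormalTensor.exists_normRed_equiv (C := R) (C' := C') (Q := Q)
    (Ideal.Quotient.mk (nilradical A)) Ideal.Quotient.mk_surjective Ideal.mk_ker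
  exact ⟨e, fun a p => congrFun (he a) p⟩

/-- Comparison of embeddings of residue fields along a local homomorphism with the same residue field. -/
theorem nonempty_emb_equiv {B : Type u} [CommRing B] [IsLocalRing A] [IsLocalRing B] (φ : A →+* B)
    [IsLocalHom φ] (hφ : Function.Surjective φ) (M : MaximalSpectrum (CAlg2.normRed A))
    (N : MaximalSpectrum (CAlg2.normRed B))
    (θ : (CAlg2.normRed A ⧸ M.asIdeal) ≃+* (CAlg2.normRed B ⧸ N.asIdeal))
    (hθ : ∀ a, θ (Brnch.toResidue A M a) = Brnch.toResidue B N (φ a)) :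
    Nonempty (Brnch.Emb A M ≃ Brnch.Emb B N) := by
  have hbij : Function.Bijective (ResidueField.map φ) := ⟨RingHom.injective _, fun x => by
    obtain ⟨b, rfl⟩ := residue_surjective x
    obtain ⟨a, rfl⟩ := hφ b
    exact ⟨residue A a, ResidueField.map_residue φ a⟩⟩
  let ψ : ResidueField A ≃+* ResidueField B := RingEquiv.ofBijective _ hbij
  let ι : AlgebraicClosure (ResidueField A) ≃+* AlgebraicClosure (ResidueField B) :=
    IsAlgClosure.equivOfEquiv _ _ ψ
  have hι : ∀ a, ι (Brnch.toClosure A a) = Brnch.toClosure B (φ a) := fun a => by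
    show ι (algebraMap (ResidueField A) _ (residue A a)) = _
    rw [IsAlgClosure.equivOfEquiv_algebraMap]
    rfl
  refine ⟨
    { toFun := fun σ => ⟨(ι.toRingHom.comp σ.1).comp θ.symm.toRingHom, RingHom.ext fun b => ?_⟩
      invFun := fun σ => ⟨(ι.symm.toRingHom.comp σ.1).comp θ.toRingHom, RingHom.ext fun a => ?_⟩
      left_inv := fun σ => Subtype.ext (RingHom.ext fun w => by simp)
      right_inv := fun σ => Subtype.ext (RingHom.ext fun w => by simp) }⟩
  · obtain ⟨a, rfl⟩ := hφ b
    show ι (σ.1 (θ.symm (Brnch.toResidue B N (φ a)))) = Brnch.toClosure B (φ a)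
    rw [← hθ, RingEquiv.symm_apply_apply, ← hι]
    exact congrArg ι (RingHom.congr_fun σ.2 a)
  · show ι.symm (σ.1 (θ (Brnch.toResidue A M a))) = _
    rw [hθ, RingEquiv.symm_apply_eq, hι]
    exact RingHom.congr_fun σ.2 _

/-- The maximal ideals of the normalisation, component by component. -/
theorem exists_component_equiv (h : (minimalPrimes A).Finite) :
    ∃ Φ : (Σ p : minimalPrimes A, MaximalSpectrum (CAlg2.normRed (A ⧸ p.1))) ≃
        MaximalSpectrum (CAlg2.normRed A),
      ∀ x, ∃ θ : (CAlg2.normRed A ⧸ (Φ x).asIdeal) ≃+* (CAlg2.normRed (A ⧸ x.1.1) ⧸ x.2.asIdeal),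
        ∀ a, θ (Brnch.toResidue A (Φ x) a) =
          Brnch.toResidue (A ⧸ x.1.1) x.2 (Ideal.Quotient.mk x.1.1 a) := by
  classical
  haveI : Fintype (minimalPrimes A) := h.fintype
  obtain ⟨e, he⟩ := exists_normRed_pi_equiv A h
  let g : ∀ p : minimalPrimes A, CAlg2.normRed A →+* CAlg2.normRed (A ⧸ p.1) := fun p =>
    (Pi.evalRingHom (fun p : minimalPrimes A => CAlg2.normRed (A ⧸ p.1)) p).comp e.toRingHom
  have hg : ∀ p, Function.Surjective (g p) := fun p y =>
    ⟨e.symm (Pi.single p y), by simp [g]⟩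
  let u : minimalPrimes A → CAlg2.normRed A := fun p => e.symm (Pi.single p 1)
  have hu : ∀ p q, g q (u p) = if q = p then 1 else 0 := fun p q => by
    rcases eq_or_ne q p with rfl | hne
    · simp [g, u]
    · simp [g, u, hne]
  let F : (Σ p : minimalPrimes A, MaximalSpectrum (CAlg2.normRed (A ⧸ p.1))) →
      MaximalSpectrum (CAlg2.normRed A) := fun x =>
    ⟨x.2.asIdeal.comap (g x.1),
      haveI := x.2.isMaximal
      Ideal.comap_isMaximal_of_surjective _ (hg x.1)⟩
  have hF : Function.Bijective F := by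
    constructor
    · rintro ⟨p, N⟩ ⟨q, N'⟩ hFF
      have h1 : N.asIdeal.comap (g p) = N'.asIdeal.comap (g q) := congrArg MaximalSpectrum.asIdeal hFF
      have hpq : p = q := by
        by_contra hne
        have h2 : u p ∈ N'.asIdeal.comap (g q) := by
          rw [Ideal.mem_comap, hu, if_neg (Ne.symm hne)]; exact zero_mem _
        rw [← h1, Ideal.mem_comap, hu, if_pos rfl] at h2
        exact N.isMaximal.ne_top ((Ideal.eq_top_iff_one _).mpr h2)
      subst hpq
      exact congrArg _ (MaximalSpectrum.ext (Ideal.comap_injective_of_surjective _ (hg p) h1))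
    · intro M
      haveI := M.isMaximal
      obtain ⟨p, hp⟩ : ∃ p, u p ∉ M.asIdeal := by
        by_contra hall
        push Not at hall
        refine M.isMaximal.ne_top ((Ideal.eq_top_iff_one _).mpr ?_)
        have : (1 : CAlg2.normRed A) = ∑ p, u p := by
          apply e.injective
          rw [map_one, map_sum]
          simp only [u, RingEquiv.apply_symm_apply]
          exact (Finset.univ_sum_single (1 : ∀ p : minimalPrimes A, CAlg2.normRed (A ⧸ p.1))).symm
        rw [this]
        exact Ideal.sum_mem _ fun p _ => hall p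
      have hk : RingHom.ker (g p) ≤ M.asIdeal := fun x hx => by
        have h1 : x * u p = 0 := by
          apply e.injective
          funext q
          rcases eq_or_ne q p with rfl | hne
          · simpa [u, g] using hx
          · simp [u, hne]
        exact (M.isMaximal.isPrime.mem_or_mem (h1 ▸ zero_mem _)).resolve_right hp
      have hc : (M.asIdeal.map (g p)).comap (g p) = M.asIdeal := by
        rw [Ideal.comap_map_of_surjective' _ (hg p), sup_eq_left.mpr hk]
      refine ⟨⟨p, ⟨M.asIdeal.map (g p), (Ideal.map_eq_top_or_isMaximal_of_surjective _ (hg p)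
        M.isMaximal).resolve_left fun htop => M.isMaximal.ne_top ?_⟩⟩, MaximalSpectrum.ext hc⟩
      rw [← hc, htop, Ideal.comap_top]
  refine ⟨Equiv.ofBijective F hF, fun x => ?_⟩
  let θ₀ : (CAlg2.normRed A ⧸ x.2.asIdeal.comap (g x.1)) →+* (CAlg2.normRed (A ⧸ x.1.1) ⧸ x.2.asIdeal) :=
    Ideal.quotientMap x.2.asIdeal (g x.1) le_rfl
  refine ⟨RingEquiv.ofBijective θ₀ ⟨Ideal.quotientMap_injective,
    Ideal.quotientMap_surjective (hg x.1)⟩, fun a => ?_⟩
  show θ₀ (Ideal.Quotient.mk _ (toNorm A a)) = Ideal.Quotient.mk _ (toNorm _ _)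
  rw [Ideal.quotientMap_mk]
  exact congrArg _ (he a x.1)

end Groth.Agent.BranchLib
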